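import Mathlib
import Cfsg.Agent.Lib.Helper83.SnB.Q8MDefs
import Cfsg.Agent.Lib.Helper24.SnB.Q8MTools

/-!
# S2986 (helper41 / helper83 project, [Q8-M]): sub-package [M-OXXs] (helper24)

Orthogonal `A`'s, both blocks exceptional, `Q_E V = Q_F V`: impossible.
-/

set_option autoImplicit false

namespace Cfsg.Agent.Lib.Helper24.SnB

open Cfsg Cfsg.Agent.Lib.Helper41.SnB Cfsg.Agent.Lib.Helper34.SnB Cfsg.Agent.Lib.Helper83.SnB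
open scoped commutatorElement

universe u

variable {G : Type u} [Group G] [Finite G] {p : ℕ} [Fact p.Prime] {S₀ E F KE KF : Subgroup G}
  {zE zF : G}

/-- `z` inverts `Q V / V` (exceptional block) -/
theorem inv_on_QV (gf : GF p S₀) (oE : OB p S₀ E KE zE) (xE : XB p S₀ E KE zE) :
    ∀ r ∈ Qb p E ⊔ Vb p G, zE * r * zE⁻¹ * r ∈ Vb p G := by
  haveI : (Vb p G).Normal := ⟨fun v hv g => gf.Vn g v hv⟩
  intro r hr
  obtain ⟨u, hu, v, hv, rfl⟩ := Subgroup.mem_sup_of_normal_right.mp hr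
  have hc : (zE * v * zE⁻¹) * u = u * (zE * v * zE⁻¹) :=
    gf.Vc _ (gf.Vn zE v hv) u (oE.sb.QP hu)
  have e : zE * (u * v) * zE⁻¹ * (u * v) = (zE * u * zE⁻¹ * u) * ((zE * v * zE⁻¹) * v) := by
    calc zE * (u * v) * zE⁻¹ * (u * v)
        = (zE * u * zE⁻¹) * ((zE * v * zE⁻¹) * u) * v := by group
      _ = (zE * u * zE⁻¹) * (u * (zE * v * zE⁻¹)) * v := by rw [hc]
      _ = (zE * u * zE⁻¹ * u) * ((zE * v * zE⁻¹) * v) := by group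
  rw [e]
  exact (Vb p G).mul_mem (xE.WV (xE.exc.invQ u hu)) ((Vb p G).mul_mem (gf.Vn zE v hv) hv)

/-- `K` normalizes `Q ⊔ V` and is trivial on `P` modulo it -/
theorem K_mem_trivOn_PR (gf : GF p S₀) (oE : OB p S₀ E KE zE) {k : G} (hk : k ∈ KE) :
    k ∈ trivOn (pCore p G) (Qb p E ⊔ Vb p G) := by
  have hkR : ∀ k ∈ KE, ∀ y ∈ Qb p E ⊔ Vb p G, k * y * k⁻¹ ∈ Qb p E ⊔ Vb p G := by
    intro k hk
    refine conj_sup_mem ?_ ?_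
    · intro y hy
      exact (le_sup_left : Qb p E ≤ Qb p E ⊔ Vb p G) (K_conj_Q oE hk y hy)
    · intro y hy
      exact (le_sup_right : Vb p G ≤ Qb p E ⊔ Vb p G) (gf.Vn k y hy)
  refine ⟨mem_normalizer_of_both (hkR k hk) (fun y hy => ?_), fun c hc => ?_⟩
  · have h := hkR k⁻¹ (KE.inv_mem hk) y hy
    rwa [inv_inv] at h
  · exact (le_sup_left : Qb p E ≤ Qb p E ⊔ Vb p G) (oE.b1.PXQ k (oE.q8.KX hk) c hc)

/-- [M-OXXs] -/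
theorem pkgOXXs : PkgOXXs.{u} := by
  intro G _ _ p _ S₀ E F KE KF zE zF gf oE oF hc1 hc2 xE xF hs
  have hs' : Qb p E ⊔ Vb p G = Qb p F ⊔ Vb p G := hs
  have hzE : zE ∈ KE := oE.q8.zK
  have hzF : zF ∈ KF := oF.q8.zK
  have hV : ∀ x : G, x ∈ Subgroup.normalizer ((Vb p G : Subgroup G) : Set G) :=
    mem_normalizer_V gf
  haveI : (Vb p G).Normal := ⟨fun v hv g => gf.Vn g v hv⟩
  have hinvE : ∀ r ∈ Qb p E ⊔ Vb p G, zE * r * zE⁻¹ * r ∈ Vb p G := inv_on_QV gf oE xE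
  have hinvF : ∀ r ∈ Qb p E ⊔ Vb p G, zF * r * zF⁻¹ * r ∈ Vb p G := by
    rw [hs']
    exact inv_on_QV gf oF xF
  -- `[z_E, z_F] = 1`
  have hzz : zE * zF = zF * zE := by
    have hgS : zE * zF * zE⁻¹ * zF⁻¹ ∈ S₀ :=
      S₀.mul_mem (S₀.mul_mem (S₀.mul_mem (oE.q8.KS hzE) (oF.q8.KS hzF))
        (S₀.inv_mem (oE.q8.KS hzE))) (S₀.inv_mem (oF.q8.KS hzF))
    obtain ⟨h0, h1⟩ := comm_KK_VB oE oF hc1 hc2 hzE hzF
    have hzzT : zE * zF ∈ trivOn (Qb p E ⊔ Vb p G) (Vb p G) :=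
      ⟨hV _, triv_of_inv_inv gf.Vn hinvE hinvF⟩
    have einv : zE * zF * zE⁻¹ * zF⁻¹ = (zE * zF) * (zE * zF) := by
      have e1 : zE⁻¹ = zE := inv_eq_of_mul_eq_one_right oE.q8.zz
      have e2 : zF⁻¹ = zF := inv_eq_of_mul_eq_one_right oF.q8.zz
      rw [e1, e2, mul_assoc (zE * zF) zE zF]
    have h2 : ∀ r ∈ Qb p E ⊔ Vb p G,
        (zE * zF * zE⁻¹ * zF⁻¹) * r * (zE * zF * zE⁻¹ * zF⁻¹)⁻¹ * r⁻¹ ∈ Vb p G := by
      rw [einv]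
      exact (Subgroup.mul_mem _ hzzT hzzT).2
    have hzET : zE ∈ trivOn (pCore p G) (Qb p E ⊔ Vb p G) := K_mem_trivOn_PR gf oE hzE
    have hzFT : zF ∈ trivOn (pCore p G) (Qb p E ⊔ Vb p G) := by
      rw [hs']
      exact K_mem_trivOn_PR gf oF hzF
    have hgT : zE * zF * zE⁻¹ * zF⁻¹ ∈ trivOn (pCore p G) (Qb p E ⊔ Vb p G) :=
      Subgroup.mul_mem _ (Subgroup.mul_mem _ (Subgroup.mul_mem _ hzET hzFT)
        (Subgroup.inv_mem _ hzET)) (Subgroup.inv_mem _ hzFT)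
    have hg1 : zE * zF * zE⁻¹ * zF⁻¹ = 1 :=
      chain3 gf hgS (Ab p E ⊔ Ab p F) (Qb p E ⊔ Vb p G) (B_le_V oE oF) le_sup_right
        (sup_le oE.sb.QP gf.VP) h0 h1 h2 hgT.2
    calc zE * zF = (zE * zF * zE⁻¹ * zF⁻¹) * (zF * zE) := by group
      _ = zF * zE := by rw [hg1, one_mul]
  -- `z_F` normalizes `Q_E`
  have hnQ : ∀ u ∈ Qb p E, zF * u * zF⁻¹ ∈ Qb p E := conj_Q_of_comm gf oE hzz.symm
  -- `Z_E ≤ Z_F`
  have hZ : Zb p E ≤ Zb p F := by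
    have hle : ⁅Qb p E, Qb p E⁆ ≤ Zb p F := by
      rw [Subgroup.commutator_le]
      intro u hu u' hu'
      have h1 : u ∈ Qb p F ⊔ Vb p G := by
        rw [← hs']
        exact (le_sup_left : Qb p E ≤ Qb p E ⊔ Vb p G) hu
      have h2 : u' ∈ Qb p F ⊔ Vb p G := by
        rw [← hs']
        exact (le_sup_left : Qb p E ≤ Qb p E ⊔ Vb p G) hu'
      obtain ⟨u₁, hu₁, v₁, hv₁, rfl⟩ := Subgroup.mem_sup_of_normal_right.mp h1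
      obtain ⟨u₂, hu₂, v₂, hv₂, rfl⟩ := Subgroup.mem_sup_of_normal_right.mp h2
      have c1 : v₁ * u₁ = u₁ * v₁ := gf.Vc v₁ hv₁ u₁ (oF.sb.QP hu₁)
      have c2 : v₁ * u₂ = u₂ * v₁ := gf.Vc v₁ hv₁ u₂ (oF.sb.QP hu₂)
      have c3 : v₂ * u₁ = u₁ * v₂ := gf.Vc v₂ hv₂ u₁ (oF.sb.QP hu₁)
      have c4 : v₂ * u₂ = u₂ * v₂ := gf.Vc v₂ hv₂ u₂ (oF.sb.QP hu₂)
      have c5 : v₁ * v₂ = v₂ * v₁ := gf.Vc v₁ hv₁ v₂ (gf.VP hv₂)
      have key := comm_mul_central c1 c2 c3 c4 c5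
      rw [commutatorElement_def, ← c1, ← c4, key]
      exact xF.QZ u₁ hu₁ u₂ hu₂
    rw [xE.exc.comm] at hle
    exact hle
  apply xE.noInv zF (oF.q8.KS hzF) hnQ
  · intro w hw
    obtain ⟨a, ha, ζ, hζ, rfl⟩ := xE.exc.WAZ w hw
    have h1 : zF * a = a * zF := hc1 zF hzF a ha
    have h2 : zF * ζ = ζ * zF := (oF.bf.ZC ζ (hZ hζ) zF (oF.q8.KX hzF)).symm
    have h3 : zF * (a * ζ) = (a * ζ) * zF := by
      calc zF * (a * ζ) = (zF * a) * ζ := by group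
        _ = (a * zF) * ζ := by rw [h1]
        _ = a * (zF * ζ) := by group
        _ = a * (ζ * zF) := by rw [h2]
        _ = (a * ζ) * zF := by group
    have h4 : zF * (a * ζ) * zF⁻¹ * (a * ζ)⁻¹ = 1 := by
      rw [h3]
      group
    rw [h4]
    exact Subgroup.one_mem _
  · intro c hc u hu
    have hd : zF * c * zF⁻¹ * c⁻¹ ∈ Qb p E ⊔ Vb p G := by
      rw [hs']
      exact (le_sup_left : Qb p F ≤ Qb p F ⊔ Vb p G) (oF.b1.PXQ zF (oF.q8.KX hzF) c hc)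
    obtain ⟨u₀, hu₀, v₀, hv₀, hd'⟩ := Subgroup.mem_sup_of_normal_right.mp hd
    rw [← hd']
    have hvu : v₀ * u = u * v₀ := gf.Vc v₀ hv₀ u (oE.sb.QP hu)
    have e : (u₀ * v₀) * u * (u₀ * v₀)⁻¹ * u⁻¹ = u₀ * u * u₀⁻¹ * u⁻¹ := by
      calc (u₀ * v₀) * u * (u₀ * v₀)⁻¹ * u⁻¹ = u₀ * (v₀ * u) * v₀⁻¹ * u₀⁻¹ * u⁻¹ := by group
        _ = u₀ * (u * v₀) * v₀⁻¹ * u₀⁻¹ * u⁻¹ := by rw [hvu]
        _ = u₀ * u * u₀⁻¹ * u⁻¹ := by group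
    rw [e]
    exact xE.QZ u₀ hu₀ u hu
  · intro u hu
    exact oE.b1.VQW (Subgroup.mem_inf.mpr
      ⟨hinvF u ((le_sup_left : Qb p E ≤ Qb p E ⊔ Vb p G) hu), (Qb p E).mul_mem (hnQ u hu) hu⟩)

end Cfsg.Agent.Lib.Helper24.SnB
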