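import Mathlib
import Cfsg.Agent.Lib.Helper34.SnB.QSDefs
import Cfsg.Agent.Lib.Helper53.PGroups
import Cfsg.Agent.Lib.Helper24.SnB.QSNeq

/-!
# S2986 (helper41 / helper34 project): sub-package [QS-EXC] (helper24)

Both blocks exceptional: `[E, F]` lies in `W_E` or in `W_F`.
-/

set_option autoImplicit false

namespace Cfsg.Agent.Lib.Helper24.SnB

open Cfsg Cfsg.Agent.Lib.Helper41.SnB Cfsg.Agent.Lib.Helper34.SnB
open scoped commutatorElement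

universe u

/-- elementwise normalization gives membership in the normalizer -/
theorem mem_normalizer_of_nz {G : Type u} [Group G] {H K : Subgroup G} (h : Nz H K) {g : G}
    (hg : g ∈ H) : g ∈ Subgroup.normalizer (K : Set G) := by
  rw [Subgroup.mem_normalizer_iff]
  intro x
  constructor
  · exact h g hg x
  · intro hx
    have h1 := h g⁻¹ (H.inv_mem hg) _ hx
    have h2 : g⁻¹ * (g * x * g⁻¹) * g⁻¹⁻¹ = x := by group
    rwa [h2] at h1

/-- an element normalizing `H` and `K` normalizes `⁅H, K⁆` -/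
theorem conj_commutator_mem {G : Type u} [Group G] {H K : Subgroup G} {g : G}
    (hH : ∀ x ∈ H, g * x * g⁻¹ ∈ H) (hK : ∀ x ∈ K, g * x * g⁻¹ ∈ K) :
    ∀ y ∈ ⁅H, K⁆, g * y * g⁻¹ ∈ ⁅H, K⁆ := by
  have hle : ⁅H, K⁆ ≤ (⁅H, K⁆).comap (MulAut.conj g).toMonoidHom := by
    rw [Subgroup.commutator_le]
    intro h hh k hk
    rw [Subgroup.mem_comap]
    have : (MulAut.conj g).toMonoidHom ⁅h, k⁆ = ⁅g * h * g⁻¹, g * k * g⁻¹⁆ := by
      simp only [MulEquiv.coe_toMonoidHom, MulAut.conj_apply, commutatorElement_def]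
      group
    rw [this]
    exact Subgroup.commutator_mem_commutator (hH h hh) (hK k hk)
  intro y hy
  exact hle hy

/-- the elements of `X` on which `t` acts trivially modulo `X₀` (`X₀` central in `X`) -/
def stabMod {G : Type u} [Group G] (X X₀ : Subgroup G) (t : G)
    (hc : ∀ x ∈ X, ∀ y ∈ X₀, y * x = x * y) : Subgroup G where
  carrier := {u | u ∈ X ∧ t * u * t⁻¹ * u⁻¹ ∈ X₀}
  one_mem' := ⟨X.one_mem, by
    have : t * 1 * t⁻¹ * (1 : G)⁻¹ = 1 := by group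
    rw [this]
    exact X₀.one_mem⟩
  mul_mem' := by
    rintro a b ⟨ha, ha'⟩ ⟨hb, hb'⟩
    refine ⟨X.mul_mem ha hb, ?_⟩
    have h1 : (t * b * t⁻¹ * b⁻¹) * a = a * (t * b * t⁻¹ * b⁻¹) := hc a ha _ hb'
    have e1 : t * (a * b) * t⁻¹ * (a * b)⁻¹ =
        (t * a * t⁻¹ * a⁻¹) * (a * (t * b * t⁻¹ * b⁻¹)) * a⁻¹ := by group
    rw [e1, ← h1]
    have e2 : (t * a * t⁻¹ * a⁻¹) * ((t * b * t⁻¹ * b⁻¹) * a) * a⁻¹ =
        (t * a * t⁻¹ * a⁻¹) * (t * b * t⁻¹ * b⁻¹) := by group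
    rw [e2]
    exact X₀.mul_mem ha' hb'
  inv_mem' := by
    rintro a ⟨ha, ha'⟩
    refine ⟨X.inv_mem ha, ?_⟩
    have h1 : (t * a * t⁻¹ * a⁻¹) * a = a * (t * a * t⁻¹ * a⁻¹) := hc a ha _ ha'
    have h2 : (t * a * t⁻¹ * a⁻¹)⁻¹ * a = a * (t * a * t⁻¹ * a⁻¹)⁻¹ := by
      calc (t * a * t⁻¹ * a⁻¹)⁻¹ * a
          = (t * a * t⁻¹ * a⁻¹)⁻¹ * (a * (t * a * t⁻¹ * a⁻¹)) * (t * a * t⁻¹ * a⁻¹)⁻¹ := by group
        _ = (t * a * t⁻¹ * a⁻¹)⁻¹ * ((t * a * t⁻¹ * a⁻¹) * a) * (t * a * t⁻¹ * a⁻¹)⁻¹ := by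
          rw [h1]
        _ = a * (t * a * t⁻¹ * a⁻¹)⁻¹ := by group
    have e1 : t * a⁻¹ * t⁻¹ * a⁻¹⁻¹ = a⁻¹ * ((t * a * t⁻¹ * a⁻¹)⁻¹ * a) := by group
    rw [e1, h2]
    have e2 : a⁻¹ * (a * (t * a * t⁻¹ * a⁻¹)⁻¹) = (t * a * t⁻¹ * a⁻¹)⁻¹ := by group
    rw [e2]
    exact X₀.inv_mem ha'

theorem mem_stabMod {G : Type u} [Group G] {X X₀ : Subgroup G} {t : G}
    {hc : ∀ x ∈ X, ∀ y ∈ X₀, y * x = x * y} {u : G} :
    u ∈ stabMod X X₀ t hc ↔ u ∈ X ∧ t * u * t⁻¹ * u⁻¹ ∈ X₀ := Iff.rfl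

/-- a `p`-element `t` normalizing the `p`-group `X` and its proper subgroup `X₀` (normal in `X`)
fixes a nontrivial element of `X / X₀` -/
theorem exists_fixed_mod {G : Type u} [Group G] [Finite G] {p : ℕ} [Fact p.Prime]
    {X X₀ : Subgroup G} {t : G} (hXp : IsPGroup p ↥X) {k : ℕ} (htk : t ^ (p ^ k) = 1)
    (hX₀X : X₀ ≤ X) (hne : X₀ ≠ X)
    (hXn : X ≤ Subgroup.normalizer (X₀ : Set G))
    (htX : t ∈ Subgroup.normalizer (X : Set G)) (htX₀ : t ∈ Subgroup.normalizer (X₀ : Set G)) :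
    ∃ u ∈ X, u ∉ X₀ ∧ t * u * t⁻¹ * u⁻¹ ∈ X₀ := by
  have hZn : Subgroup.zpowers t ≤ Subgroup.normalizer (X : Set G) := Subgroup.zpowers_le.mpr htX
  have hHp : IsPGroup p ↥(X ⊔ Subgroup.zpowers t) :=
    IsPGroup.to_sup_of_normal_left' hXp (zpowers_isPGroup htk) hZn
  obtain ⟨H, hH⟩ : ∃ H : Subgroup G, H = X ⊔ Subgroup.zpowers t := ⟨_, rfl⟩
  rw [← hH] at hHp
  have hXH : X ≤ H := hH ▸ le_sup_left
  have htH : t ∈ H := hH ▸ (le_sup_right (a := X) (Subgroup.mem_zpowers t))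
  have hX₀H : X₀ ≤ H := hX₀X.trans hXH
  have hHn₀ : H ≤ Subgroup.normalizer (X₀ : Set G) :=
    hH ▸ sup_le hXn (Subgroup.zpowers_le.mpr htX₀)
  have hHnX : H ≤ Subgroup.normalizer (X : Set G) := hH ▸ sup_le Subgroup.le_normalizer hZn
  have hn0 : (X₀.subgroupOf H).Normal :=
    (Subgroup.normal_subgroupOf_iff_le_normalizer hX₀H).mpr hHn₀
  have hn1 : (X.subgroupOf H).Normal :=
    (Subgroup.normal_subgroupOf_iff_le_normalizer hXH).mpr hHnX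
  have hΓ : IsPGroup p (↥H ⧸ X₀.subgroupOf H) := hHp.to_quotient _
  obtain ⟨D, hD⟩ : ∃ D : Subgroup (↥H ⧸ X₀.subgroupOf H),
      D = (X.subgroupOf H).map (QuotientGroup.mk' (X₀.subgroupOf H)) := ⟨_, rfl⟩
  have hDn : D.Normal := by
    rw [hD]
    exact Subgroup.Normal.map hn1 _ (QuotientGroup.mk'_surjective _)
  have hDne : D ≠ ⊥ := by
    intro hbot
    apply hne
    apply le_antisymm hX₀X
    intro x hx
    have h1 : QuotientGroup.mk' (X₀.subgroupOf H) ⟨x, hXH hx⟩ ∈ D := by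
      rw [hD]
      exact Subgroup.mem_map_of_mem _ (Subgroup.mem_subgroupOf.mpr hx)
    rw [hbot, Subgroup.mem_bot] at h1
    have h2 : (⟨x, hXH hx⟩ : ↥H) ∈ X₀.subgroupOf H := (QuotientGroup.eq_one_iff _).mp h1
    exact Subgroup.mem_subgroupOf.mp h2
  obtain ⟨z, hzD, hz1, hzc⟩ :=
    Cfsg.Agent.Lib.Helper53.exists_mem_center_of_normal_of_ne_bot hΓ D hDne
  rw [hD] at hzD
  obtain ⟨⟨u, huH⟩, huX, rfl⟩ := Subgroup.mem_map.mp hzD
  have huX' : u ∈ X := Subgroup.mem_subgroupOf.mp huX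
  refine ⟨u, huX', ?_, ?_⟩
  · intro hu0
    apply hz1
    exact (QuotientGroup.eq_one_iff _).mpr (Subgroup.mem_subgroupOf.mpr hu0)
  · have hcomm := Subgroup.mem_center_iff.mp hzc (QuotientGroup.mk' (X₀.subgroupOf H) ⟨t, htH⟩)
    have h3 : QuotientGroup.mk' (X₀.subgroupOf H)
        ((⟨t, htH⟩ : ↥H) * ⟨u, huH⟩ * (⟨t, htH⟩ : ↥H)⁻¹ * (⟨u, huH⟩ : ↥H)⁻¹) = 1 := by
      rw [map_mul, map_mul, map_mul, map_inv, map_inv, hcomm]
      group
    have h4 := (QuotientGroup.eq_one_iff _).mp h3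
    exact Subgroup.mem_subgroupOf.mp h4

/-- Sub-package [QS-EXC]. -/
theorem pkgExc : PkgExc.{u} := by
  intro G _ _ p _ E F sE sF fE fF hC hEF hFE hXQ xE xF t htE htQ hk
  obtain ⟨k, htk⟩ := hk
  by_contra hcon
  push Not at hcon
  obtain ⟨hXWE, hXWF⟩ := hcon
  obtain ⟨X, hX⟩ : ∃ X : Subgroup G, X = ⁅E, F⁆ := ⟨_, rfl⟩
  rw [← hX] at hXQ hXWE hXWF
  obtain ⟨-, hQQE, -, hZEne, hcovE, hfaithE⟩ := xE
  obtain ⟨-, hQQF, -, hZFne, hcovF, -⟩ := xF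
  have hXQE : X ≤ Qb p E := hXQ.trans inf_le_left
  have hXQF : X ≤ Qb p F := hXQ.trans inf_le_right
  have hFnE : ∀ f ∈ F, f ∈ Subgroup.normalizer (E : Set G) := fun f hf => mem_normalizer_of_nz hFE hf
  have hEnF : ∀ e ∈ E, e ∈ Subgroup.normalizer (F : Set G) := fun e he => mem_normalizer_of_nz hEF he
  -- `X` is invariant under `E` and `F`
  have hEX : Nz E X := by
    intro e he x hx
    rw [hX] at hx ⊢
    exact conj_commutator_mem (fun y hy => E.mul_mem (E.mul_mem he hy) (E.inv_mem he))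
      (fun y hy => hEF e he y hy) x hx
  have hFX : Nz F X := by
    intro f hf x hx
    rw [hX] at hx ⊢
    exact conj_commutator_mem (fun y hy => hFE f hf y hy)
      (fun y hy => F.mul_mem (F.mul_mem hf hy) (F.inv_mem hf)) x hx
  -- the covers
  have covE : ∀ u ∈ Qb p E, ∃ x ∈ X, ∃ w ∈ Wb p E, u = x * w := hcovE X hXQE hEX hXWE
  have covF : ∀ u ∈ Qb p F, ∃ x ∈ X, ∃ w ∈ Wb p F, u = x * w := hcovF X hXQF hFX hXWF
  -- `X ⊓ W_E ≤ W_F`
  have h2 : X ⊓ Wb p E ≤ Wb p F := by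
    by_contra hnot
    have hinv : Nz F (X ⊓ Wb p E) := fun f hf y hy =>
      Subgroup.mem_inf.mpr ⟨hFX f hf y (Subgroup.mem_inf.mp hy).1,
        fE.nW f (hFnE f hf) y (Subgroup.mem_inf.mp hy).2⟩
    have cov := hcovF (X ⊓ Wb p E) (inf_le_left.trans hXQF) hinv hnot
    have hab : ∀ u ∈ Qb p F, ∀ u' ∈ Qb p F, u * u' = u' * u := by
      intro u hu u' hu'
      obtain ⟨x, hx, w, hw, rfl⟩ := cov u hu
      obtain ⟨x', hx', w', hw', rfl⟩ := cov u' hu'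
      have hxQ : x ∈ Qb p F := hXQF (Subgroup.mem_inf.mp hx).1
      have hx'Q : x' ∈ Qb p F := hXQF (Subgroup.mem_inf.mp hx').1
      have c1 : w * x' = x' * w := fF.WcQ w hw x' hx'Q
      have c2 : w' * x = x * w' := fF.WcQ w' hw' x hxQ
      have c3 : x * x' = x' * x :=
        fE.WcQ x (Subgroup.mem_inf.mp hx).2 x' (fE.WQ (Subgroup.mem_inf.mp hx').2)
      have c4 : w * w' = w' * w := fF.WcQ w hw w' (fF.WQ hw')
      calc x * w * (x' * w') = x * (w * x') * w' := by group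
        _ = x * (x' * w) * w' := by rw [c1]
        _ = (x * x') * (w * w') := by group
        _ = (x' * x) * (w' * w) := by rw [c3, c4]
        _ = x' * (x * w') * w := by group
        _ = x' * (w' * x) * w := by rw [c2]
        _ = x' * w' * (x * w) := by group
    apply hZFne
    rw [← hQQF, Subgroup.commutator_eq_bot_iff_le_centralizer]
    intro u hu
    rw [Subgroup.mem_centralizer_iff]
    intro u' hu'
    exact hab u' hu' u hu
  have h2' : X ⊓ Wb p F ≤ Wb p E := by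
    by_contra hnot
    have hinv : Nz E (X ⊓ Wb p F) := fun e he y hy =>
      Subgroup.mem_inf.mpr ⟨hEX e he y (Subgroup.mem_inf.mp hy).1,
        fF.nW e (hEnF e he) y (Subgroup.mem_inf.mp hy).2⟩
    have cov := hcovE (X ⊓ Wb p F) (inf_le_left.trans hXQE) hinv hnot
    have hab : ∀ u ∈ Qb p E, ∀ u' ∈ Qb p E, u * u' = u' * u := by
      intro u hu u' hu'
      obtain ⟨x, hx, w, hw, rfl⟩ := cov u hu
      obtain ⟨x', hx', w', hw', rfl⟩ := cov u' hu'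
      have hxQ : x ∈ Qb p E := hXQE (Subgroup.mem_inf.mp hx).1
      have hx'Q : x' ∈ Qb p E := hXQE (Subgroup.mem_inf.mp hx').1
      have c1 : w * x' = x' * w := fE.WcQ w hw x' hx'Q
      have c2 : w' * x = x * w' := fE.WcQ w' hw' x hxQ
      have c3 : x * x' = x' * x :=
        fF.WcQ x (Subgroup.mem_inf.mp hx).2 x' (fF.WQ (Subgroup.mem_inf.mp hx').2)
      have c4 : w * w' = w' * w := fE.WcQ w hw w' (fE.WQ hw')
      calc x * w * (x' * w') = x * (w * x') * w' := by group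
        _ = x * (x' * w) * w' := by rw [c1]
        _ = (x * x') * (w * w') := by group
        _ = (x' * x) * (w' * w) := by rw [c3, c4]
        _ = x' * (x * w') * w := by group
        _ = x' * (w' * x) * w := by rw [c2]
        _ = x' * w' * (x * w) := by group
    apply hZEne
    rw [← hQQE, Subgroup.commutator_eq_bot_iff_le_centralizer]
    intro u hu
    rw [Subgroup.mem_centralizer_iff]
    intro u' hu'
    exact hab u' hu' u hu
  -- `X₀`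
  obtain ⟨X₀, hX₀⟩ : ∃ X₀ : Subgroup G, X₀ = X ⊓ Wb p E := ⟨_, rfl⟩
  have hX₀' : X₀ = X ⊓ Wb p F := by
    rw [hX₀]
    exact le_antisymm (le_inf inf_le_left h2) (le_inf inf_le_left h2')
  have hX₀X : X₀ ≤ X := hX₀ ▸ inf_le_left
  have hX₀WE : X₀ ≤ Wb p E := hX₀ ▸ inf_le_right
  have hX₀WF : X₀ ≤ Wb p F := hX₀' ▸ inf_le_right
  have hEX₀ : Nz E X₀ := by
    intro e he y hy
    rw [hX₀] at hy ⊢
    exact Subgroup.mem_inf.mpr ⟨hEX e he y (Subgroup.mem_inf.mp hy).1,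
      fE.nW e (Subgroup.le_normalizer he) y (Subgroup.mem_inf.mp hy).2⟩
  have hFX₀ : Nz F X₀ := by
    intro f hf y hy
    rw [hX₀'] at hy ⊢
    exact Subgroup.mem_inf.mpr ⟨hFX f hf y (Subgroup.mem_inf.mp hy).1,
      fF.nW f (Subgroup.le_normalizer hf) y (Subgroup.mem_inf.mp hy).2⟩
  have hXc : ∀ x ∈ X, ∀ y ∈ X₀, y * x = x * y :=
    fun x hx y hy => fE.WcQ y (hX₀WE hy) x (hXQE hx)
  -- `[X, X] ≤ X₀`
  have h3 : ∀ x ∈ X, ∀ x' ∈ X, x * x' * x⁻¹ * x'⁻¹ ∈ X₀ := by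
    intro x hx x' hx'
    rw [hX₀]
    refine Subgroup.mem_inf.mpr
      ⟨X.mul_mem (X.mul_mem (X.mul_mem hx hx') (X.inv_mem hx)) (X.inv_mem hx'), ?_⟩
    have h4 : ⁅x, x'⁆ ∈ ⁅Qb p E, Qb p E⁆ :=
      Subgroup.commutator_mem_commutator (hXQE hx) (hXQE hx')
    rw [hQQE, commutatorElement_def] at h4
    exact (Subgroup.mem_inf.mp h4).1
  -- a fixed point of `t` on `X / X₀`
  have hXp : IsPGroup p ↥X := fE.Qp.to_le hXQE
  have htNX : t ∈ Subgroup.normalizer (X : Set G) := mem_normalizer_of_nz hEX htE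
  have htNX₀ : t ∈ Subgroup.normalizer (X₀ : Set G) := mem_normalizer_of_nz hEX₀ htE
  have hXnX₀ : X ≤ Subgroup.normalizer (X₀ : Set G) := by
    intro x hx
    rw [Subgroup.mem_normalizer_iff]
    intro y
    constructor
    · intro hy
      have h5 := hXc x hx y hy
      have e : x * y * x⁻¹ = y := by
        rw [← h5]; group
      rw [e]; exact hy
    · intro hy
      have h5 : x * y * x⁻¹ * x = x * (x * y * x⁻¹) := hXc x hx _ hy
      have e : y = x * y * x⁻¹ := by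
        calc y = x⁻¹ * (x * y * x⁻¹ * x) := by group
          _ = x⁻¹ * (x * (x * y * x⁻¹)) := by rw [h5]
          _ = x * y * x⁻¹ := by group
      rw [e]; exact hy
  have hX₀ne : X₀ ≠ X := by
    intro h
    apply hXWE
    rw [← h]
    exact hX₀WE
  obtain ⟨u₀, hu₀X, hu₀n, hu₀c⟩ := exists_fixed_mod hXp htk hX₀X hX₀ne hXnX₀ htNX htNX₀
  -- the subgroup `C`
  obtain ⟨C, hCdef⟩ : ∃ C : Subgroup G, C = stabMod X X₀ t hXc := ⟨_, rfl⟩
  have hCmem : ∀ u, u ∈ C ↔ u ∈ X ∧ t * u * t⁻¹ * u⁻¹ ∈ X₀ := fun u => by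
    rw [hCdef]; rfl
  have hCX : C ≤ X := fun u hu => ((hCmem u).mp hu).1
  have hFC : Nz F C := by
    intro f hf u hu
    obtain ⟨huX, huc⟩ := (hCmem u).mp hu
    rw [hCmem]
    refine ⟨hFX f hf u huX, ?_⟩
    have hc : t⁻¹ * f⁻¹ * t * f ∈ X := by
      rw [hX]
      have h4 := Subgroup.commutator_mem_commutator (E.inv_mem htE) (F.inv_mem hf)
      rw [commutatorElement_def, inv_inv, inv_inv] at h4
      exact h4
    have h5 : (t⁻¹ * f⁻¹ * t * f) * u * (t⁻¹ * f⁻¹ * t * f)⁻¹ * u⁻¹ ∈ X₀ := h3 _ hc u huX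
    have h6 := hEX₀ t htE _ h5
    have h7 := X₀.mul_mem h6 huc
    have h8 := hFX₀ f hf _ h7
    have e : t * (f * u * f⁻¹) * t⁻¹ * (f * u * f⁻¹)⁻¹ =
        f * (t * ((t⁻¹ * f⁻¹ * t * f) * u * (t⁻¹ * f⁻¹ * t * f)⁻¹ * u⁻¹) * t⁻¹ *
          (t * u * t⁻¹ * u⁻¹)) * f⁻¹ := by group
    rw [e]
    exact h8
  have hCW : ¬ C ≤ Wb p F := by
    intro h
    apply hu₀n
    have hu₀C : u₀ ∈ C := (hCmem u₀).mpr ⟨hu₀X, hu₀c⟩
    rw [hX₀']
    exact Subgroup.mem_inf.mpr ⟨hu₀X, h hu₀C⟩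
  have covC := hcovF C (hCX.trans hXQF) hFC hCW
  -- `X = C`
  have hXC : ∀ x ∈ X, t * x * t⁻¹ * x⁻¹ ∈ X₀ := by
    intro x hx
    obtain ⟨c, hc, w, hw, hxcw⟩ := covC x (hXQF hx)
    have hwX : w ∈ X := by
      have h4 : w = c⁻¹ * x := by rw [hxcw]; group
      rw [h4]
      exact X.mul_mem (X.inv_mem (hCX hc)) hx
    have hw0 : w ∈ X₀ := by
      rw [hX₀']
      exact Subgroup.mem_inf.mpr ⟨hwX, hw⟩
    have hwC : w ∈ C :=
      (hCmem w).mpr ⟨hwX, X₀.mul_mem (hEX₀ t htE w hw0) (X₀.inv_mem hw0)⟩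
    have hxC : x ∈ C := by
      rw [hxcw]
      exact C.mul_mem hc hwC
    exact ((hCmem x).mp hxC).2
  -- `t` acts trivially on `Q_E / W_E`
  apply htQ
  apply hfaithE t htE
  intro u hu
  obtain ⟨x, hx, w, hw, rfl⟩ := covE u hu
  have h9 : t * x * t⁻¹ * x⁻¹ ∈ Wb p E := hX₀WE (hXC x hx)
  have h10 : t * w * t⁻¹ * w⁻¹ ∈ Wb p E :=
    (Wb p E).mul_mem (fE.nW t (Subgroup.le_normalizer htE) w hw) ((Wb p E).inv_mem hw)
  have h11 : (t * w * t⁻¹ * w⁻¹) * x = x * (t * w * t⁻¹ * w⁻¹) := fE.WcQ _ h10 x (hXQE hx)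
  have e : t * (x * w) * t⁻¹ * (x * w)⁻¹ =
      (t * x * t⁻¹ * x⁻¹) * (x * (t * w * t⁻¹ * w⁻¹)) * x⁻¹ := by group
  rw [e, ← h11]
  have e2 : (t * x * t⁻¹ * x⁻¹) * ((t * w * t⁻¹ * w⁻¹) * x) * x⁻¹ =
      (t * x * t⁻¹ * x⁻¹) * (t * w * t⁻¹ * w⁻¹) := by group
  rw [e2]
  exact (Wb p E).mul_mem h9 h10

end Cfsg.Agent.Lib.Helper24.SnB
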